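import Mathlib

/-!
Subgroups isomorphic to `A₄` of `GL₂(ℤ/2ᵏ)`.
-/

set_option autoImplicit false

namespace CF.Known

open Matrix Subgroup

variable {k : ℕ}

theorem zmod_parity (x : ZMod (2 ^ k)) : ∃ y, x = 2 * y ∨ x = 1 + 2 * y := by
  obtain ⟨n, rfl⟩ := ZMod.natCast_zmod_surjective x
  rcases n.even_or_odd with ⟨m, rfl⟩ | ⟨m, rfl⟩
  exacts [⟨m, Or.inl (by push_cast; ring)⟩, ⟨m, Or.inr (by push_cast; ring)⟩]

theorem isUnit_of_odd {x : ZMod (2 ^ k)} (y : ZMod (2 ^ k)) (h : x = 1 + 2 * y) : IsUnit x :=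
  h ▸ IsNilpotent.isUnit_one_add ⟨k, by
    rw [mul_pow, show (2 : ZMod (2 ^ k)) ^ k = 0 by exact_mod_cast ZMod.natCast_self (2 ^ k),
      zero_mul]⟩

theorem eq_one_of_cube {x : ZMod (2 ^ k)} (h : x ^ 3 = 1) : x = 1 := by
  have : IsUnit (x ^ 2 + x + 1) := by
    obtain ⟨y, rfl | rfl⟩ := zmod_parity x
    exacts [isUnit_of_odd (2 * y ^ 2 + y) (by ring), isUnit_of_odd (1 + 3 * y + 2 * y ^ 2) (by ring)]
  exact sub_eq_zero.1 (this.mul_left_eq_zero.1 (by linear_combination h))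

theorem two_mul_eq_zero_cases (hk : 2 ≤ k) {x : ZMod (2 ^ k)} (h : 2 * x = 0) :
    x = 0 ∨ x = 2 * 2 ^ (k - 2) := by
  obtain ⟨k, rfl⟩ := Nat.exists_eq_add_of_le' hk
  obtain ⟨n, rfl⟩ := ZMod.natCast_zmod_surjective x
  have h1 : 2 * 2 ^ (k + 1) ∣ 2 * n := by
    rw [← pow_succ', ← ZMod.natCast_eq_zero_iff]; exact_mod_cast h
  obtain ⟨m, rfl⟩ := Nat.dvd_of_mul_dvd_mul_left two_pos h1
  have h2 : (2 : ZMod (2 ^ (k + 2))) ^ (k + 2) = 0 := by exact_mod_cast ZMod.natCast_self (2 ^ (k + 2))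
  obtain ⟨y, hy | hy⟩ := zmod_parity (m : ZMod (2 ^ (k + 2)))
  · left; push_cast; rw [hy]; linear_combination y * h2
  · right; push_cast; rw [hy]; linear_combination y * h2

theorem trace_of_cube {p q r s : ZMod (2 ^ k)} (h : !![p, q; r, s] ^ 3 = 1)
    (h1 : !![p, q; r, s] ≠ 1) : IsUnit r ∧ p + s = -1 ∧ p * s - q * r = 1 := by
  have hd : p * s - q * r = 1 := eq_one_of_cube (by rw [← det_fin_two_of, ← det_pow, h, det_one])
  rw [pow_three, mul_fin_two, mul_fin_two] at h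
  have e := fun i j => congrFun (congrFun h i) j
  have e1 := e 0 0
  have e2 := e 0 1
  have e3 := e 1 0
  have e4 := e 1 1
  simp only [of_apply, cons_val', cons_val_zero, cons_val_one, cons_val_fin_one, one_apply_eq,
    ne_eq, zero_ne_one, one_ne_zero, not_false_eq_true, one_apply_ne] at e1 e2 e3 e4
  have k0 : IsUnit r := by
    obtain ⟨y, hy | hy⟩ := zmod_parity r
    · have hu : IsUnit ((p + s) ^ 2 - 1) := by
        obtain ⟨a, ha | ha⟩ := zmod_parity p <;> obtain ⟨b, hb | hb⟩ := zmod_parity s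
        · exact isUnit_of_odd (2 * (a + b) ^ 2 - 1) (by rw [ha, hb]; ring)
        · exact isUnit_of_odd (((p + s) ^ 2 - 2) * (a * s - q * y)) (by
            linear_combination (2 - (p + s) ^ 2) * (hd - s * ha + q * hy))
        · exact isUnit_of_odd (((p + s) ^ 2 - 2) * (p * b - q * y)) (by
            linear_combination (2 - (p + s) ^ 2) * (hd - p * hb + q * hy))
        · exact isUnit_of_odd (2 * (1 + a + b) ^ 2 - 1) (by rw [ha, hb]; ring)
      obtain rfl : q = 0 := hu.mul_right_eq_zero.1 (by linear_combination e2 + q * hd)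
      obtain rfl : r = 0 := hu.mul_right_eq_zero.1 (by linear_combination e3 + r * hd)
      obtain rfl : p = 1 := eq_one_of_cube (by linear_combination e1)
      obtain rfl : s = 1 := eq_one_of_cube (by linear_combination e4)
      exact absurd one_fin_two.symm h1
    · exact isUnit_of_odd y hy
  have k1 : (p + s) ^ 2 = 1 := sub_eq_zero.1 (k0.mul_left_eq_zero.1 (by
    linear_combination e3 + r * hd))
  exact ⟨k0, by linear_combination (-1) * e1 + p * k1 - (2 * p + s) * hd, hd⟩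

/-- The standard element of order three. -/
def cubeW (k : ℕ) : GL (Fin 2) (ZMod (2 ^ k)) :=
  ⟨!![0, -1; 1, -1], !![-1, 1; -1, 0], by simp [one_fin_two], by simp [one_fin_two]⟩

theorem exists_conj_cubeW {w : GL (Fin 2) (ZMod (2 ^ k))} (h : w ^ 3 = 1) (h1 : w ≠ 1) :
    ∃ g, g * w * g⁻¹ = cubeW k := by
  obtain ⟨hu, h2, h3⟩ := trace_of_cube (eta_fin_two w.1 ▸ congrArg Units.val h)
    (eta_fin_two w.1 ▸ mt Units.ext_iff.2 h1)
  refine ⟨(GeneralLinearGroup.mk'' !![1, w.1 0 0; 0, w.1 1 0] (by simpa))⁻¹, ?_⟩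
  rw [inv_inv, mul_assoc, inv_mul_eq_iff_eq_mul, Units.ext_iff, Units.val_mul, Units.val_mul]
  change w.1 * !![1, w.1 0 0; 0, w.1 1 0] = !![1, w.1 0 0; 0, w.1 1 0] * !![0, -1; 1, -1]
  ext i j
  fin_cases i <;> fin_cases j <;> simp [mul_apply]
  · linear_combination w.1 0 0 * h2 - h3
  · linear_combination w.1 1 0 * h2

theorem ncard_invol_le (hk : 2 ≤ k) :
    {a : GL (Fin 2) (ZMod (2 ^ k)) | a ^ 2 = 1 ∧ (a * cubeW k) ^ 3 = 1}.ncard ≤ 4 := by
  have h2 : (2 : ZMod (2 ^ k)) * (2 * 2 ^ (k - 2)) = 0 := by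
    rw [← pow_succ', ← pow_succ', show k - 2 + 1 + 1 = k by omega]
    exact_mod_cast ZMod.natCast_self (2 ^ k)
  have key : ∀ a : GL (Fin 2) (ZMod (2 ^ k)), a ^ 2 = 1 → (a * cubeW k) ^ 3 = 1 →
      ∃ y z, 2 * y = 0 ∧ 2 * z = 0 ∧ a.1 = !![1 + y - z, y; z, 1 + y - z] := fun a h h' => by
    replace h := congrArg Units.val h
    replace h' := congrArg Units.val h'
    rw [Units.val_pow_eq_pow_val, Units.val_one] at h h'
    rw [Units.val_mul] at h'
    rw [eta_fin_two a.1] at h h' ⊢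
    generalize a.1 0 0 = x at *
    generalize a.1 0 1 = y at *
    generalize a.1 1 0 = z at *
    generalize a.1 1 1 = t at *
    have e := fun i j => congrFun (congrFun h i) j
    have e1 := e 0 0
    have e2 := e 0 1
    have e3 := e 1 0
    simp [pow_two] at e1 e2 e3
    simp only [cubeW, mul_fin_two] at h'
    obtain ⟨-, k1, k2⟩ := trace_of_cube h' fun k0 => by
      have k1 := congrFun (congrFun k0 0) 0
      have k2 := congrFun (congrFun k0 0) 1
      have k3 := congrFun (congrFun k0 1) 0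
      simp at k1 k2 k3
      haveI : Fact (1 < 2 ^ k) := ⟨Nat.one_lt_two_pow (by omega)⟩
      exact one_ne_zero (α := ZMod (2 ^ k)) (by
        linear_combination -e2 + (x + t - 1) * k1 + k3 - k2)
    have k3 : x = t := by linear_combination t * e1 - x * k2 - z * e2
    subst k3
    refine ⟨y, z, by linear_combination x * e2 - y * (e1 + k2),
      by linear_combination x * e3 - z * (e1 + k2), ?_⟩
    rw [show 1 + y - z = x by linear_combination k1]
  refine (Set.ncard_le_ncard_of_injOn (fun a => (a.1 0 1, a.1 1 0))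
    (t := {0, 2 * 2 ^ (k - 2)} ×ˢ {0, 2 * 2 ^ (k - 2)}) (fun a ha => ?_) (fun a ha b hb e => ?_)
    (Set.toFinite _)).trans ?_
  · obtain ⟨y, z, h1, h2, h3⟩ := key a ha.1 ha.2
    rw [h3]
    exact ⟨two_mul_eq_zero_cases hk h1, two_mul_eq_zero_cases hk h2⟩
  · obtain ⟨y, z, -, -, h3⟩ := key a ha.1 ha.2
    obtain ⟨y', z', -, -, h4⟩ := key b hb.1 hb.2
    simp only [h3, h4, Prod.mk.injEq] at e
    obtain ⟨rfl, rfl⟩ : y = y' ∧ z = z' := e
    exact Units.ext (h3.trans h4.symm)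
  · rw [Set.ncard_prod]
    have := Set.ncard_insert_le 0 ({2 * 2 ^ (k - 2)} : Set (ZMod (2 ^ k)))
    rw [Set.ncard_singleton] at this
    exact Nat.mul_le_mul this this

theorem exists_conj_A4 (hk : 2 ≤ k) {H : Subgroup (GL (Fin 2) (ZMod (2 ^ k)))}
    (e : H ≃* alternatingGroup (Fin 4)) : ∃ g, H.map (MulAut.conj g).toMonoidHom =
      Subgroup.closure (insert (cubeW k) {a | a ^ 2 = 1 ∧ (a * cubeW k) ^ 3 = 1}) := by
  let w : alternatingGroup (Fin 4) := ⟨Equiv.swap 0 1 * Equiv.swap 1 2, Equiv.Perm.mem_alternatingGroup.2 (by decide)⟩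
  obtain ⟨g, hg⟩ := exists_conj_cubeW (w := (e.symm w).1) (by
    rw [← coe_pow, ← map_pow, show w ^ 3 = 1 by decide, map_one, coe_one])
    (by simpa using (by decide : w ≠ 1))
  let f := ((MulAut.conj g).toMonoidHom.comp H.subtype).comp e.symm.toMonoidHom
  have hf : Function.Injective f := (((MulAut.conj g).injective).comp H.subtype_injective).comp
    e.symm.injective
  have h1 : f '' {a | a ^ 2 = 1 ∧ (a * w) ^ 3 = 1} = {a | a ^ 2 = 1 ∧ (a * cubeW k) ^ 3 = 1} := by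
    refine Set.eq_of_subset_of_ncard_le ?_ ((ncard_invol_le hk).trans ?_)
    · rintro _ ⟨a, ⟨h1, h2⟩, rfl⟩
      exact ⟨by rw [← map_pow, h1, map_one], by
        rw [← show f w = _ from hg, ← map_mul, ← map_pow, h2, map_one]⟩
    · rw [Set.ncard_image_of_injective _ hf, Set.ncard_eq_toFinset_card']
      decide +kernel
  have h2 : Subgroup.closure (insert w {a | a ^ 2 = 1 ∧ (a * w) ^ 3 = 1}) = ⊤ := eq_top_iff.2 fun x _ => by
    have hw := Subgroup.subset_closure (Set.mem_insert w {a | a ^ 2 = 1 ∧ (a * w) ^ 3 = 1})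
    obtain ⟨i, hi⟩ := (by decide +kernel : ∀ x : alternatingGroup (Fin 4), ∃ i : Fin 3,
      (x * w ^ i.1) ^ 2 = 1 ∧ (x * w ^ i.1 * w) ^ 3 = 1) x
    exact (mul_mem_cancel_right (pow_mem hw i.1)).1 (Subgroup.subset_closure (Or.inr hi))
  refine ⟨g, ?_⟩
  rw [← h1, ← show f w = _ from hg, ← Set.image_insert_eq, ← MonoidHom.map_closure, h2,
    ← MonoidHom.range_eq_map, MonoidHom.range_comp, MonoidHom.range_eq_top.2 e.symm.surjective,
    ← MonoidHom.range_eq_map, MonoidHom.range_comp, range_subtype]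

end CF.Known
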