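import Mathlib

/-!
A redundant Sylow `p`-subgroup of `GL_p(q)`.
-/

set_option autoImplicit false

namespace CF.Known

open Matrix Subgroup

variable {F : Type*} [Field F] {p : ℕ} [hp : Fact p.Prime]

theorem factorization_card_GL [Fintype F] (h2 : p ≠ 2) (h1 : p ∣ Fintype.card F - 1)
    (h3 : ¬ p ^ 2 ∣ Fintype.card F - 1) : (Nat.card (GL (Fin p) F)).factorization p = p + 1 := by
  have hq := Fintype.one_lt_card (α := F)
  have h4 : ¬ p ∣ Fintype.card F := fun h =>
    hp.out.not_dvd_one ((Nat.dvd_sub_iff_right hq.le h).1 h1)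
  have h5 : padicValNat p (Fintype.card F - 1) = 1 := le_antisymm
    (not_lt.1 fun h => h3 ((padicValNat_dvd_iff_le (by omega)).2 h))
    (one_le_padicValNat_of_dvd (by omega) h1)
  rw [card_GL_field, Nat.factorization_prod_apply fun i _ => (Nat.sub_pos_of_lt
    (Nat.pow_lt_pow_right hq i.2)).ne', Finset.sum_congr rfl
      (g := fun i : Fin p => 1 + if i = 0 then 1 else 0) fun i _ => ?_]
  · simp [Finset.sum_add_distrib]
  have h6 := padicValNat.pow_sub_pow (hp.out.odd_of_ne_two h2) hq h1 h4 (Nat.sub_pos_of_lt i.2).ne'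
  rw [Nat.factorization_def _ hp.out, show Fintype.card F ^ p = Fintype.card F ^ i.1 *
    Fintype.card F ^ (p - i) by rw [← pow_add, Nat.add_sub_cancel' i.2.le], ← Nat.mul_sub_one,
    padicValNat.mul (by positivity) (Nat.sub_pos_of_lt (Nat.one_lt_pow (Nat.sub_pos_of_lt i.2).ne'
      hq)).ne', padicValNat.eq_zero_of_not_dvd (mt hp.out.dvd_of_dvd_pow h4), zero_add]
  rw [one_pow] at h6
  rw [h6, h5]
  split_ifs with h
  · simp [h]
  · rw [padicValNat.eq_zero_of_not_dvd (Nat.not_dvd_of_pos_of_lt (Nat.sub_pos_of_lt i.2)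
      (Nat.sub_lt hp.out.pos (Fin.pos_iff_ne_zero.2 h)))]

/-- A monomial matrix over a cyclic shift. -/
def shiftMon (e : Fin p → F) (i : Fin p) : Matrix (Fin p) (Fin p) F :=
  of fun j k => if k = j - i then e j else 0

theorem shiftMon_mul_apply (e : Fin p → F) (i : Fin p) (A : Matrix (Fin p) (Fin p) F) (j k : Fin p) :
    (shiftMon e i * A) j k = e j * A (j - i) k := by
  simp [shiftMon, mul_apply]

theorem shiftMon_mul (e e' : Fin p → F) (i i' : Fin p) :
    shiftMon e i * shiftMon e' i' = shiftMon (fun j => e j * e' (j - i)) (i + i') := by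
  ext j k
  rw [shiftMon_mul_apply]
  simp [shiftMon, sub_sub]

theorem shiftMon_zero (e : Fin p → F) : shiftMon e 0 = diagonal e := by
  ext j k
  simp [shiftMon, diagonal_apply, eq_comm]

variable (F p) in
/-- The group `C_p ≀ C_p`. -/
def wrQ : Subgroup (GL (Fin p) F) where
  carrier := {g | ∃ e i, (∀ j, e j ^ p = 1) ∧ g.1 = shiftMon e i}
  one_mem' := ⟨1, 0, by simp, by simp [shiftMon_zero]⟩
  mul_mem' := fun ⟨e, i, h1, h2⟩ ⟨e', i', h3, h4⟩ => ⟨fun j => e j * e' (j - i), i + i',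
    fun j => by rw [mul_pow, h1, h3, one_mul], by rw [Units.val_mul, h2, h4, shiftMon_mul]⟩
  inv_mem' := fun {g} ⟨e, i, h1, h2⟩ => ⟨fun j => (e (j + i))⁻¹, -i, fun j => by simp [h1],
    Units.inv_eq_of_mul_eq_one_right (by
      have := fun j => ne_zero_pow hp.out.ne_zero ((h1 j).trans_ne one_ne_zero)
      simp [h2, shiftMon_mul, shiftMon_zero, this])⟩

theorem mem_wrQ {g : GL (Fin p) F} :
    g ∈ wrQ F p ↔ ∃ e i, (∀ j, e j ^ p = 1) ∧ g.1 = shiftMon e i := Iff.rfl

theorem card_wrQ {ω : F} (hω : IsPrimitiveRoot ω p) : Nat.card (wrQ F p) = p ^ (p + 1) := by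
  have k : ∀ (e : Fin p → rootsOfUnity p F) i, shiftMon (fun j => (e j).1.1) i *
      shiftMon (fun j => ((e (j + i)).1.1)⁻¹) (-i) = 1 := fun e i => by
    simp [shiftMon_mul, shiftMon_zero]
  rw [← Nat.card_congr (Equiv.ofBijective (fun x : (Fin p → rootsOfUnity p F) × Fin p =>
    (⟨⟨_, _, k x.1 x.2, mul_eq_one_comm.1 (k x.1 x.2)⟩, mem_wrQ.2 ⟨_, _, fun j =>
      (mem_rootsOfUnity' _ _).1 (x.1 j).2, rfl⟩⟩ : wrQ F p)) ⟨fun ⟨e, i⟩ ⟨e', i'⟩ h => ?_,
        fun ⟨g, hg⟩ => let ⟨e, i, h1, h2⟩ := mem_wrQ.1 hg; ⟨(fun j => rootsOfUnity.mkOfPowEq _ (h1 j), i), Subtype.ext (Units.ext h2.symm)⟩⟩),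
    Nat.card_prod, Nat.card_fun, hω.card_rootsOfUnity, Nat.card_fin, pow_succ]
  have h1 := fun j => congrArg (fun g : wrQ F p => g.1.1 j (j - i)) h
  simp only [shiftMon, of_apply, if_true, sub_right_inj] at h1
  obtain rfl : i = i' := by_contra fun k => by simpa [k] using h1 0
  exact Prod.ext (funext fun j => Subtype.ext (Units.ext (by simpa using h1 j))) rfl

theorem shiftMon_pow (e : Fin p → F) (i : Fin p) (t : ℕ) :
    ∃ e', shiftMon e i ^ t = shiftMon e' (t • i) := by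
  induction t with
  | zero => exact ⟨1, by simp [shiftMon_zero]⟩
  | succ t ih => obtain ⟨e', h⟩ := ih; exact ⟨_, by rw [pow_succ, h, shiftMon_mul, succ_nsmul]⟩

theorem nsmul_ne_zero {i : Fin p} (hi : i ≠ 0) {t : ℕ} (h0 : t ≠ 0) (h : t < p) : t • i ≠ 0 := fun k => by
  have := addOrderOf_dvd_card (x := i)
  rw [Fintype.card_fin, Nat.dvd_prime hp.out, AddMonoid.addOrderOf_eq_one_iff] at this
  exact Nat.not_dvd_of_pos_of_lt (Nat.pos_of_ne_zero h0) h
    (this.resolve_left hi ▸ addOrderOf_dvd_of_nsmul_eq_zero k)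

theorem row_of_mem_normalizer (h2 : p ≠ 2) {ω : F} (hω : IsPrimitiveRoot ω p) {u : GL (Fin p) F}
    (hu : u ∈ normalizer (wrQ F p : Set (GL (Fin p) F))) {j a b : Fin p} (ha : u.1 j a ≠ 0)
    (hb : u.1 j b ≠ 0) : a = b := by
  by_contra hab
  have h0 := hω.ne_zero hp.out.ne_zero
  have h1 := hω.ne_one hp.out.one_lt
  let z : GL (Fin p) F := GeneralLinearGroup.mkOfDetNeZero (diagonal (Function.update 1 a ω)) (by
    simp [Finset.prod_update_of_mem, h0])
  have hz : z.1 = diagonal (Function.update 1 a ω) := rfl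
  obtain ⟨e, i, -, k⟩ := mem_wrQ.1 ((mem_normalizer_iff.1 hu z).1 (mem_wrQ.2 ⟨_, 0, fun j => by
    by_cases h : j = a <;> simp [h, hω.pow_eq_one], hz.trans (shiftMon_zero _).symm⟩))
  by_cases hi : i = 0
  · have k1 : u.1 * z.1 = diagonal e * u.1 := by
      rw [← shiftMon_zero, ← hi, ← k, ← Units.val_mul, ← Units.val_mul, inv_mul_cancel_right]
    have k2 := congrFun (congrFun k1 j) a
    have k3 := congrFun (congrFun k1 j) b
    simp [hz, Function.update_of_ne (Ne.symm hab), mul_comm, ha, hb] at k2 k3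
    exact h1 (k2.trans k3)
  have k1 : ∀ t, t ≠ 0 → t < p → ω ^ t + ∑ _ ∈ Finset.univ \ {a}, 1 = 0 := fun t t0 t1 => by
    obtain ⟨e', h⟩ := shiftMon_pow e i t
    have := trace_units_conj u (z.1 ^ t)
    rw [← Units.val_pow_eq_pow_val, ← Units.val_mul, ← Units.val_mul, ← conj_pow,
      Units.val_pow_eq_pow_val, k, h, Units.val_pow_eq_pow_val, hz, diagonal_pow, trace_diagonal,
      ← Finset.add_sum_erase _ _ (Finset.mem_univ a), ← Finset.sdiff_singleton_eq_erase,
      Finset.sum_congr rfl (g := fun _ => 1) fun x hx => by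
        simp [show x ≠ a by simpa using hx]] at this
    simpa [trace, shiftMon, eq_sub_iff_add_eq, nsmul_ne_zero hi t0 t1] using this.symm
  have k2 := k1 1 one_ne_zero hp.out.one_lt
  have k3 := k1 2 two_ne_zero (hp.out.two_le.lt_of_ne' h2)
  exact mul_ne_zero h0 (sub_ne_zero.2 h1) (by linear_combination k3 - k2)

theorem exists_conj_mem_wrQ (h2 : p ≠ 2) {ω : F} (hω : IsPrimitiveRoot ω p) {x : GL (Fin p) F}
    (hx : x ∈ wrQ F p) : ∃ u : GL (Fin p) F, u * x * u⁻¹ ∈ wrQ F p ∧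
      ∃ j a b, u.1 j a ≠ 0 ∧ u.1 j b ≠ 0 ∧ a ≠ b := by
  have hc : ∀ u : Matrix (Fin p) (Fin p) F, IsUnit u → u * x.1 = x.1 * u →
      (∃ j a b, u j a ≠ 0 ∧ u j b ≠ 0 ∧ a ≠ b) → ∃ u : GL (Fin p) F, u * x * u⁻¹ ∈ wrQ F p ∧
      ∃ j a b, u.1 j a ≠ 0 ∧ u.1 j b ≠ 0 ∧ a ≠ b := fun _ ⟨u, h1⟩ h h' => ⟨u, by
        rwa [show u * x = x * u from Units.ext (by simpa [h1]), mul_inv_cancel_right], h1 ▸ h'⟩
  obtain ⟨e, i, h1, h3⟩ := mem_wrQ.1 hx
  have h0 := fun j => ne_zero_pow hp.out.ne_zero ((h1 j).trans_ne one_ne_zero)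
  by_cases hi : i = 0
  · rw [hi, shiftMon_zero] at h3
    by_cases he : Function.Injective e
    · haveI := hp.out.one_lt
      refine ⟨GeneralLinearGroup.mkOfDetNeZero (vandermonde e)ᵀ (by
        rwa [det_transpose, det_vandermonde_ne_zero_iff]), mem_wrQ.2 ⟨1, -1, by simp, ?_⟩, 0, 0,
          ⟨1, this⟩, by simp, by simp, by simp [Fin.ext_iff]⟩
      rw [Units.val_mul, Units.mul_inv_eq_iff_eq_mul, Units.val_mul, h3]
      ext j k
      simp [shiftMon_mul_apply, Fin.val_add, ← pow_succ, ← pow_eq_pow_mod _ (h1 k)]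
    · obtain ⟨a, b, h, hab⟩ := Function.not_injective_iff.1 he
      refine hc (transvection a b 1) ((isUnit_iff_isUnit_det _).2 (by simp [hab])) ?_
        ⟨a, a, b, by simp [transvection, hab.symm], by simp [transvection, hab], hab⟩
      rw [h3, transvection, mul_add, add_mul, one_mul, mul_one, add_right_inj]
      ext j k
      rw [mul_diagonal, diagonal_mul]
      by_cases h4 : a = j <;> by_cases h5 : b = k <;> simp [h4, h5]
      rw [← h4, ← h5, h]
  have h4 := nsmul_ne_zero hi two_ne_zero (hp.out.two_le.lt_of_ne' h2)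
  have h5 := mul_geom_sum x.1 p
  by_cases h6 : x.1 ^ p = 1
  · set N := ∑ t ∈ Finset.range p, x.1 ^ t with hN
    have n1 : x.1 * N = N := by rwa [h6, sub_self, sub_mul, one_mul, sub_eq_zero] at h5
    have n2 : N * N = (p : F) • N := by
      have : ∀ t, x.1 ^ t * N = N := fun t => by
        induction t with
        | zero => simp
        | succ t ih => rw [pow_succ, mul_assoc, n1, ih]
      nth_rw 1 [hN]
      simp [Finset.sum_mul, this, Nat.cast_smul_eq_nsmul]
    have n3 : ∀ j, N j j = 1 := fun j => by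
      rw [hN, Matrix.sum_apply, Finset.sum_eq_single 0 (fun t t1 t0 => ?_) (by simp [hp.out.pos])]
      · simp
      obtain ⟨e', h⟩ := shiftMon_pow e i t
      rw [h3, h]
      simp [shiftMon, eq_sub_iff_add_eq, nsmul_ne_zero hi t0 (Finset.mem_range.1 t1)]
    have n4 : ∀ j k, N j k ≠ 0 → N (j - i) k ≠ 0 := fun j k h h' => h (by
      rw [← n1, h3, shiftMon_mul_apply, h', mul_zero])
    haveI := hω.neZero'
    have n5 : (ω - 1) / p ≠ 0 := div_ne_zero (sub_ne_zero.2 (hω.ne_one hp.out.one_lt)) (NeZero.ne _)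
    have n6 := hω.ne_zero hp.out.ne_zero
    refine hc (1 + ((ω - 1) / p) • N) (IsUnit.of_mul_eq_one (1 + (-((ω - 1) / p) / ω) • N) ?_)
      (((Commute.one_left _).add_left ((Commute.sum_left _ _ _ fun t _ =>
        (Commute.refl _).pow_left t).smul_left _)).eq) ⟨0, i, 2 • i, ?_, ?_, ?_⟩
    · simp only [add_mul, mul_add, one_mul, mul_one, smul_mul_assoc, mul_smul_comm, n2, smul_smul,
        add_assoc, ← add_smul, smul_add]
      rw [add_eq_left, smul_eq_zero]
      left; field_simp [NeZero.ne (p : F)]; ring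
    · simpa [Ne.symm hi, n5] using n4 i i (by simp [n3])
    · have := n4 _ _ (n4 (2 • i) (2 • i) (by simp [n3]))
      rw [show 2 • i - i - i = 0 by simp [two_smul]] at this
      simpa [Ne.symm h4, n5]
    · simpa [two_smul] using hi
  obtain ⟨c, h7⟩ := shiftMon_pow e i p
  rw [← h3, show p • i = 0 by simpa using card_nsmul_eq_zero (x := i), shiftMon_zero] at h7
  have h8 : ∀ j, c j = c 0 := fun j => by
    obtain ⟨t, rfl⟩ := mem_multiples_of_prime_card (Nat.card_fin p) (g' := j) hi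
    induction t with
    | zero => simp
    | succ t ih =>
      have := congrFun (congrFun ((Commute.refl x.1).pow_left p).eq ((t + 1) • i)) (t • i)
      rw [h7, h3] at this
      simpa [shiftMon, succ_nsmul, mul_comm, h0, ih] using this
  refine hc (x.1 - 1) (isUnit_of_mul_isUnit_left (h5.symm ▸ (?_ : IsUnit (x.1 ^ p - 1)))) (by simp [sub_mul, mul_sub])
    ⟨0, 0, -i, by simp [h3, shiftMon, hi], by simp [h3, shiftMon, hi, h0], by simpa⟩
  rw [h7, ← diagonal_one, diagonal_sub, isUnit_diagonal]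
  exact Pi.isUnit_iff.2 fun j => (sub_ne_zero.2 fun k => h6 (by
    rw [h7, ← diagonal_one]; exact congrArg _ (funext fun l => by rw [h8, ← h8 j, k]))).isUnit

theorem exists_redundant_sylow [Fintype F] (h2 : p ≠ 2) (h1 : p ∣ Fintype.card F - 1)
    (h3 : ¬ p ^ 2 ∣ Fintype.card F - 1) : ∃ Q : Sylow p (GL (Fin p) F), ∀ x : GL (Fin p) F,
      (∃ k : ℕ, orderOf x = p ^ k) → ∃ P : Sylow p (GL (Fin p) F), P ≠ Q ∧ x ∈ P := by
  obtain ⟨ω, hω⟩ := exists_prime_orderOf_dvd_card' (G := Fˣ) p (by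
    rwa [Nat.card_units, Nat.card_eq_fintype_card])
  replace hω : IsPrimitiveRoot ω.1 p := hω ▸ IsPrimitiveRoot.coe_units_iff.2 (.orderOf ω)
  refine ⟨Sylow.ofCard _ ((card_wrQ hω).trans (by rw [factorization_card_GL h2 h1 h3])),
    fun x ⟨k, hk⟩ => by_contra fun h => ?_⟩
  push Not at h
  obtain ⟨P, hP⟩ := (IsPGroup.of_card ((Nat.card_zpowers x).trans hk)).exists_le_sylow
  obtain rfl := not_not.1 (mt (h P) (not_not.2 (hP (mem_zpowers x))))
  obtain ⟨u, h4, j, a, b, h5, h6, h7⟩ := exists_conj_mem_wrQ h2 hω (hP (mem_zpowers x))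
  refine h7 (row_of_mem_normalizer h2 hω ((inv_mem_iff (x := u)).1 (Sylow.smul_eq_iff_mem_normalizer.1
    (not_not.1 (mt (h _) (not_not.2 ?_))))) h5 h6)
  exact ⟨_, h4, by simp [mul_assoc]⟩

end CF.Known
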